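import Cfsg.Agent.AutChev.Count
import Cfsg.Agent.ChevU.Smith

set_option autoImplicit false
set_option linter.unusedSectionVars false
set_option linter.unusedVariables false
set_option maxRecDepth 10000

/-!
Outer automorphism groups: the rows.
-/

namespace Cfsg.Agent.AutChev

open Cfsg.Lie Cfsg.Agent.Chev Cfsg.Agent.ChevGrp Cfsg.Agent.ChevTw Cfsg.Agent.ChevWeyl Cfsg.Agent.ChevU

lemma card_sub_one {α : Type*} {P : α → Prop} {a : α} (h : ∀ x, P x ↔ x = a) : Nat.card {x // P x} = 1 := by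
  have h1 : {x | P x} = {a} := Set.ext h
  show Nat.card ↥{x | P x} = 1
  rw [h1]; simp

lemma card_sub_two {α : Type*} {P : α → Prop} {a b : α} (hab : a ≠ b) (h : ∀ x, P x ↔ x = a ∨ x = b) :
    Nat.card {x // P x} = 2 := by
  have h1 : {x | P x} = {a, b} := Set.ext h
  show Nat.card ↥{x | P x} = 2
  rw [h1]
  exact Set.ncard_pair hab

lemma HasGraph.dat {D : ChevalleyDatum} {E : DData D} {H : Good D} {F : Type*} [Field F] [Finite F]
    {ρ : Equiv.Perm (Fin D.rank)} (h : HasGraph E H F ρ) : ∃ θ c σ, IsDat (F := F) H θ ρ c σ := by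
  obtain ⟨g, -, h1, h2⟩ := h
  obtain ⟨ρ', c, σ, hd⟩ := exists_dat H E h1
  have h3 : ρ' = ρ := hd.perm_eq fun i => ⟨1, 1, one_ne_zero, h2 i⟩
  subst h3
  exact ⟨g, c, σ, hd⟩

section
variable {F : Type*} [Field F] [Finite F]

lemma card_E7 (E : DData chevE7) (H : Good chevE7) :
    Nat.card {ρ : Equiv.Perm (Fin chevE7.rank) // HasGraph E H F ρ} = 1 := by
  apply card_sub_one (a := 1)
  intro ρ
  constructor
  · intro h
    obtain ⟨θ, c, σ, hd⟩ := h.dat
    exact rigid_E7 ρ (fun i j hij => hd.adj hij)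
  · rintro rfl
    exact hasGraph_one E H F

lemma card_E8 (E : DData chevE8) (H : Good chevE8) :
    Nat.card {ρ : Equiv.Perm (Fin chevE8.rank) // HasGraph E H F ρ} = 1 := by
  apply card_sub_one (a := 1)
  intro ρ
  constructor
  · intro h
    obtain ⟨θ, c, σ, hd⟩ := h.dat
    exact rigid_E8 ρ (fun i j hij => hd.adj hij)
  · rintro rfl
    exact hasGraph_one E H F

/-- the symmetry of E₆ -/
def flip6 : Equiv.Perm (Fin 6) := ⟨![5, 1, 4, 3, 2, 0], ![5, 1, 4, 3, 2, 0], by decide, by decide⟩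

lemma eq_flip6 {ρ : Equiv.Perm (Fin 6)} (h : ρ 0 = 5 ∧ ρ 1 = 1 ∧ ρ 2 = 4 ∧ ρ 3 = 3 ∧ ρ 4 = 2 ∧ ρ 5 = 0) : ρ = flip6 := by
  obtain ⟨h0, h1, h2, h3, h4, h5⟩ := h
  ext i; fin_cases i
  · show ((ρ 0 : Fin 6) : ℕ) = _; rw [h0]; rfl
  · show ((ρ 1 : Fin 6) : ℕ) = _; rw [h1]; rfl
  · show ((ρ 2 : Fin 6) : ℕ) = _; rw [h2]; rfl
  · show ((ρ 3 : Fin 6) : ℕ) = _; rw [h3]; rfl
  · show ((ρ 4 : Fin 6) : ℕ) = _; rw [h4]; rfl
  · show ((ρ 5 : Fin 6) : ℕ) = _; rw [h5]; rfl

lemma card_E6 (E : DData chevE6) (H : Good chevE6) :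
    Nat.card {ρ : Equiv.Perm (Fin chevE6.rank) // HasGraph E H F ρ} = 2 := by
  apply card_sub_two (a := (1 : Equiv.Perm (Fin 6))) (b := flip6)
  · intro h
    have := DFunLike.congr_fun h (0 : Fin 6)
    revert this; decide
  intro ρ
  constructor
  · intro h
    obtain ⟨θ, c, σ, hd⟩ := h.dat
    rcases rigid_E6 ρ (fun i j hij => hd.adj hij) with h1 | h1
    · exact Or.inl h1
    · exact Or.inr (eq_flip6 h1)
  · rintro (rfl | rfl)
    · exact hasGraph_one E H F
    · exact hasGraph_E6 E H F flip6 (by decide)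

lemma card_F4 (E : DData chevF4) (H : Good chevF4) (p : ℕ) [hp : Fact p.Prime] [CharP F p] :
    Nat.card {ρ : Equiv.Perm (Fin chevF4.rank) // HasGraph E H F ρ} = Nat.gcd 2 p := by
  have h0 : ∀ ρ : Equiv.Perm (Fin 4), HasGraph E H F ρ → ρ = 1 ∨ ((ρ 0 = 3 ∧ ρ 1 = 2 ∧ ρ 2 = 1 ∧ ρ 3 = 0) ∧ p = 2) := by
    intro ρ h
    obtain ⟨θ, c, σ, hd⟩ := h.dat
    rcases rigid_F4 ρ (fun i j hij => hd.adj hij) with h1 | h1
    · exact Or.inl h1
    · right
      refine ⟨h1, ?_⟩
      have h3 : (2 : F) = 0 := swap_F4 hd h1.2.1 h1.2.2.1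
      have : CharP F 2 := charP_of_eq_zero 2 (by exact_mod_cast h3)
      exact CharP.eq F ‹CharP F p› this
  by_cases hp2 : p = 2
  · subst hp2
    rw [Nat.gcd_self]
    apply card_sub_two (a := (1 : Equiv.Perm (Fin 4))) (b := rev4)
    · intro h
      have := DFunLike.congr_fun h (0 : Fin 4)
      revert this; decide
    intro ρ
    constructor
    · intro h
      rcases h0 ρ h with h1 | ⟨h1, -⟩
      · exact Or.inl h1
      · right
        obtain ⟨a0, a1, a2, a3⟩ := h1
        ext i; fin_cases i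
        · show ((ρ (0 : Fin 4) : Fin 4) : ℕ) = _; rw [a0]; rfl
        · show ((ρ (1 : Fin 4) : Fin 4) : ℕ) = _; rw [a1]; rfl
        · show ((ρ (2 : Fin 4) : Fin 4) : ℕ) = _; rw [a2]; rfl
        · show ((ρ (3 : Fin 4) : Fin 4) : ℕ) = _; rw [a3]; rfl
    · rintro (rfl | rfl)
      · exact hasGraph_one E H F
      · exact hasGraph_F4 F E H rev4 (by decide)
  · have h2 : Nat.gcd 2 p = 1 := ((Nat.coprime_primes Nat.prime_two hp.out).2 (Ne.symm hp2))
    rw [h2]
    apply card_sub_one (a := 1)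
    intro ρ
    constructor
    · intro h
      rcases h0 ρ h with h1 | ⟨-, h1⟩
      · exact h1
      · exact absurd h1 hp2
    · rintro rfl
      exact hasGraph_one E H F

lemma card_G2 (E : DData chevG2) (H : Good chevG2) (p : ℕ) [hp : Fact p.Prime] [CharP F p] :
    Nat.card {ρ : Equiv.Perm (Fin chevG2.rank) // HasGraph E H F ρ} = if p = 3 then 2 else 1 := by
  have h0 : ∀ ρ : Equiv.Perm (Fin 2), HasGraph E H F ρ → ρ = 1 ∨ ((ρ 0 = 1 ∧ ρ 1 = 0) ∧ p = 3) := by
    intro ρ h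
    obtain ⟨θ, c, σ, hd⟩ := h.dat
    rcases rigid_2 ρ with h1 | h1
    · exact Or.inl h1
    · right
      refine ⟨h1, ?_⟩
      have h3 : (3 : F) = 0 := swap_G2 hd h1.1 h1.2
      have : CharP F 3 := charP_of_eq_zero 3 (by exact_mod_cast h3)
      exact CharP.eq F ‹CharP F p› this
  by_cases hp2 : p = 3
  · subst hp2
    rw [if_pos rfl]
    apply card_sub_two (a := (1 : Equiv.Perm (Fin 2))) (b := Equiv.swap 0 1)
    · intro h
      have := DFunLike.congr_fun h (0 : Fin 2)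
      revert this; decide
    intro ρ
    constructor
    · intro h
      rcases h0 ρ h with h1 | ⟨h1, -⟩
      · exact Or.inl h1
      · right
        obtain ⟨a0, a1⟩ := h1
        ext i; fin_cases i
        · show ((ρ (0 : Fin 2) : Fin 2) : ℕ) = _; rw [a0]; rfl
        · show ((ρ (1 : Fin 2) : Fin 2) : ℕ) = _; rw [a1]; rfl
    · rintro (rfl | rfl)
      · exact hasGraph_one E H F
      · exact hasGraph_G2 F E H (Equiv.swap 0 1) (by decide)
  · rw [if_neg hp2]
    apply card_sub_one (a := 1)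
    intro ρ
    constructor
    · intro h
      rcases h0 ρ h with h1 | ⟨-, h1⟩
      · exact h1
      · exact absurd h1 hp2
    · rintro rfl
      exact hasGraph_one E H F

end

section
variable {F : Type*} [Field F] [Fintype F] (p f : ℕ) [hp : Fact p.Prime] [CharP F p] (hF : Fintype.card F = p ^ f)

include hF

theorem out_G2 : Nat.card (Cfsg.Out ↥(chevG2.group F)) = if p = 3 then 2 * f else f := by
  have H := good_of_mem (show chevG2 ∈ data by simp [data])
  obtain ⟨E⟩ := DData.nonempty_of_mem (show chevG2 ∈ types7 by simp)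
  have h := card_out_chev (F := F) E H (by simp) p f hF (d := 1) (card_diag hF (chevG2, 1) (by simp))
  rw [h, card_G2 E H p]
  split_ifs <;> ring

theorem out_F4 : Nat.card (Cfsg.Out ↥(chevF4.group F)) = Nat.gcd 2 p * f := by
  have H := good_of_mem (show chevF4 ∈ data by simp [data])
  obtain ⟨E⟩ := DData.nonempty_of_mem (show chevF4 ∈ types7 by simp)
  have h := card_out_chev (F := F) E H (by simp) p f hF (d := 1) (card_diag hF (chevF4, 1) (by simp))
  rw [h, card_F4 E H p]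
  ring

theorem out_E6 : Nat.card (Cfsg.Out ↥(chevE6.group F)) = 2 * Nat.gcd 3 (p ^ f - 1) * f := by
  have H := good_of_mem (show chevE6 ∈ data by simp [data])
  obtain ⟨E⟩ := DData.nonempty_of_mem (show chevE6 ∈ types7 by simp)
  have h := card_out_chev (F := F) E H (by simp) p f hF (d := Nat.gcd 3 (p ^ f - 1))
    (card_diag hF (chevE6, Nat.gcd 3 (p ^ f - 1)) (by simp))
  rw [h, card_E6 E H]

theorem out_E7 : Nat.card (Cfsg.Out ↥(chevE7.group F)) = Nat.gcd 2 (p ^ f - 1) * f := by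
  have H := good_of_mem (show chevE7 ∈ data by simp [data])
  obtain ⟨E⟩ := DData.nonempty_of_mem (show chevE7 ∈ types7 by simp)
  have h := card_out_chev (F := F) E H (by simp) p f hF (d := Nat.gcd 2 (p ^ f - 1))
    (card_diag hF (chevE7, Nat.gcd 2 (p ^ f - 1)) (by simp))
  rw [h, card_E7 E H]
  ring

theorem out_E8 : Nat.card (Cfsg.Out ↥(chevE8.group F)) = f := by
  have H := good_of_mem (show chevE8 ∈ data by simp [data])
  obtain ⟨E⟩ := DData.nonempty_of_mem (show chevE8 ∈ types7 by simp)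
  have h := card_out_chev (F := F) E H (by simp) p f hF (d := 1) (card_diag hF (chevE8, 1) (by simp))
  rw [h, card_E8 E H]
  ring

end

end Cfsg.Agent.AutChev
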